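import Groth.Agent.CurveVBLib.Line
import Groth.Agent.CohCmpLib.HomLift
import Groth.Agent.StabLib.Simple
import Groth.Agent.CurveSDLib.Main
import Groth.Agent.AmpleQSecLib.Main
import Groth.Agent.HurwitzLib.Fiber
import Groth.Agent.CurveH0Lib.Smooth

/-!
# Bundles inside free modules without sections
-/

set_option autoImplicit false
set_option linter.style.haveILetI false
set_option linter.unusedSectionVars false
universe u

open CategoryTheory CategoryTheory.Limits AlgebraicGeometry TopologicalSpace Opposite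
open DevissLib CurvLib QCohLib

noncomputable section

namespace VBNegLib

theorem resMap_surjective {k : Type u} [Field k] [IsAlgClosed k] {X : Scheme.{u}} [X.Over (Spec (CommRingCat.of k))]
    [LocallyOfFiniteType (X ↘ Spec (CommRingCat.of k))] {x : X} (hx : IsClosed ({x} : Set X)) :
    Function.Surjective (Curv2.resMap k X x) := by
  letI := Curv2.resAlgebra k X x
  haveI : Module.Finite k (X.residueField x) := HurwitzLib.finite_residueField hx
  exact (IsAlgClosed.algebraMap_bijective_of_isIntegral (k := k) (K := X.residueField x)).2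

variable {k : Type u} [Field k] [IsAlgClosed k] {X : Scheme.{u}} [X.Over (Spec (CommRingCat.of k))] [IsIntegral X]
  [IsProper (X ↘ Spec (CommRingCat.of k))]

local notation "𝒪" => Coh.structureModule X

/-- Scalars acting on the structure sheaf. -/
abbrev sc (c : k) : Coh.structureModule X ⟶ Coh.structureModule X :=
  StabLib.smulHom _ (Coh.toGlobal (X ↘ Spec (CommRingCat.of k)) c)

theorem sc_stalk (c : k) (x : X) (a : (St x).obj (Coh.structureModule X)) :
    ((St x).map (sc (X := X) c)).hom a = Curv2.stalkMap k X x c • a := by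
  obtain ⟨V, hxV, s, rfl⟩ := DevissLib.exists_gm_eq (Coh.structureModule X) x a
  refine (DevissLib.gm_app _ x hxV s).trans ?_
  refine (congrArg (gm (Coh.structureModule X) x hxV) (StabLib.smulHom_app _ _ V s)).trans ?_
  refine (DevissLib.gm_smul _ x hxV _ s).trans (congrArg (fun z : X.presheaf.stalk x => z • gm (Coh.structureModule X) x hxV s) ?_)
  exact TopCat.Presheaf.germ_res_apply X.presheaf (homOfLE le_top) x hxV _

variable [Smooth (X ↘ Spec (CommRingCat.of k))]

include k

/-- A jointly injective family of functionals on a bundle without sections has a combination which is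
nonzero and not surjective. -/
theorem exists_not_epi {N : X.Modules} {r : ℕ} (hN : FlatMod.IsFinLocFreeOfRank r N) (hr : r ≠ 0)
    {m : ℕ} (f : Fin m → (N ⟶ Coh.structureModule X))
    (hf : ∀ (A : X.Modules) (g : A ⟶ N), (∀ i, g ≫ f i = 0) → g = 0)
    (h0 : ∀ s : Γ(N, ⊤), s = 0) :
    ∃ g : N ⟶ Coh.structureModule X, g ≠ 0 ∧ ¬ Epi g := by
  classical
  haveI := CurvLib.isNoetherian k (X := X)
  -- a minimal jointly injective subfamily
  let P : Finset (Fin m) → Prop := fun S => ∀ (A : X.Modules) (g : A ⟶ N), (∀ i ∈ S, g ≫ f i = 0) → g = 0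
  obtain ⟨S, hS, hmin⟩ : ∃ S, P S ∧ ∀ T, P T → S.card ≤ T.card := by
    have hne : ((Finset.univ : Finset (Finset (Fin m))).filter P).Nonempty :=
      ⟨Finset.univ, Finset.mem_filter.mpr ⟨Finset.mem_univ _, fun A g h => hf A g fun i => h i (Finset.mem_univ _)⟩⟩
    obtain ⟨S, hS, hmin⟩ := Finset.exists_min_image _ Finset.card hne
    exact ⟨S, (Finset.mem_filter.mp hS).2, fun T hT => hmin T (Finset.mem_filter.mpr ⟨Finset.mem_univ _, hT⟩)⟩
  have hindep : ∀ c : S → k, (∑ i : S, f i ≫ sc (X := X) (c i)) = 0 → c = 0 := by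
    intro c hc
    by_contra hne
    obtain ⟨j, hj⟩ := Function.ne_iff.mp hne
    have hP : P (S.erase j.1) := fun A g hg => hS A g fun i hi => by
      by_cases hij : i = j.1
      · subst hij
        have h1 := congrArg (g ≫ ·) hc
        simp only [Preadditive.comp_sum, comp_zero] at h1
        rw [Finset.sum_eq_single j (fun b _ hb => ?_) (fun h => absurd (Finset.mem_univ _) h)] at h1
        · have h2 := congrArg (· ≫ sc (X := X) (c j)⁻¹) h1
          simp only [Category.assoc, zero_comp] at h2
          refine Eq.trans ?_ h2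
          have h3 : sc (X := X) (c j) ≫ sc (X := X) (c j)⁻¹ = 𝟙 _ := by
            refine sub_eq_zero.mp (CurvLib.eq_zero_of_stalks _ fun x => LinearMap.ext fun a => ?_)
            rw [Functor.map_sub, Functor.map_comp, CategoryTheory.Functor.map_id]
            show ((St x).map (sc (X := X) (c j)⁻¹)).hom (((St x).map (sc (X := X) (c j))).hom a) - a = 0
            rw [sc_stalk, sc_stalk, smul_smul, ← map_mul, inv_mul_cancel₀ hj, map_one, one_smul, sub_self]
          rw [h3, Category.comp_id]
        · rw [← Category.assoc, hg b.1 (Finset.mem_erase.mpr ⟨fun h => hb (Subtype.ext h), b.2⟩), zero_comp]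
      · exact hg i (Finset.mem_erase.mpr ⟨hij, hi⟩)
    have h4 := hmin _ hP
    rw [Finset.card_erase_of_mem j.2] at h4
    have := Finset.card_pos.mpr ⟨j.1, j.2⟩
    omega
  by_contra hall
  push Not at hall
  -- the subfamily is then an isomorphism with a free module
  let O : S → X.Modules := fun _ => Coh.structureModule X
  let ψ : N ⟶ ⨁ O := biproduct.lift fun i => f i
  haveI : Mono ψ := Preadditive.mono_of_cancel_zero _ fun g hg => hS _ g fun i hi => by
    have h := congrArg (· ≫ biproduct.π O ⟨i, hi⟩) hg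
    simpa [ψ] using h
  haveI : Epi ψ := by
    by_contra hepi
    have hC : Coh.IsCoh (⨁ O) := by
      have h1 := CurveSDLib.isCoh_biproduct (X := X) (M := fun _ : Fin (Fintype.card S) => Coh.structureModule X)
        fun _ => CurvLib.isCoh_of_isInvertible CurvLib.isInvertible_structureModule
      exact QCohLib.isCoh_of_iso (biproduct.whiskerEquiv (Fintype.equivFin S) (fun _ => Iso.refl _)).symm h1
    have hQ := QCohLib.isCoh_cokernel ψ (CurvLib.isCoh_of_locFree hN).1 hC
    have hne : (CohB1.support (cokernel ψ)).Nonempty := by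
      by_contra h
      exact hepi (Preadditive.epi_of_isZero_cokernel ψ
        (DevissLib.isZero_of_support_empty (Set.not_nonempty_iff_eq_empty.mp h)))
    obtain ⟨x, hxQ, hxc⟩ := (QCohLib.isClosed_support _ hQ.2).exists_closed_singleton hne
    let R := X.presheaf.stalk x
    obtain ⟨e0⟩ := CurvLib.nonempty_stalk_pi_of_locFree
      (CurvLib.locFree_of_isInvertible (CurvLib.isInvertible_structureModule (X := X))) x
    let e : (St x).obj (Coh.structureModule X) ≃ₗ[R] R := e0.trans (LinearEquiv.funUnique (Fin 1) R R)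
    let Φ : (St x).obj N →ₗ[R] (S → R) := LinearMap.pi fun i : S => e.toLinearMap.comp ((St x).map (f i)).hom
    have hΦ : LinearMap.range Φ ≠ ⊤ := fun htop => hxQ (by
      refine (CohCmpLib.surjective_stalk_iff x).mp ?_
      intro b
      obtain ⟨a, ha⟩ := LinearMap.range_eq_top.mp htop fun i => e (((St x).map (biproduct.π O i)).hom b)
      refine ⟨a, ?_⟩
      have hid : ∀ z : (St x).obj (⨁ O), z = ∑ i : S,
          ((St x).map (biproduct.ι O i)).hom (((St x).map (biproduct.π O i)).hom z) := fun z => by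
        have h : z = ((St x).map (𝟙 (⨁ O))).hom z := by rw [CategoryTheory.Functor.map_id]; rfl
        conv_lhs => rw [h, ← biproduct.total, Functor.map_sum, ModuleCat.hom_sum, LinearMap.sum_apply]
        refine Finset.sum_congr rfl fun i _ => ?_
        rw [Functor.map_comp]; rfl
      show ((St x).map ψ).hom a = b
      refine (hid _).trans (Eq.trans ?_ (hid b).symm)
      refine Finset.sum_congr rfl fun i _ => congrArg _ ?_
      have h1 : ((St x).map (biproduct.π O i)).hom (((St x).map ψ).hom a) = ((St x).map (f i)).hom a := by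
        rw [show f i = ψ ≫ biproduct.π O i from (biproduct.lift_π (fun i : S => f i) i).symm, Functor.map_comp]; rfl
      exact h1.trans (e.injective (congrFun ha i)))
    let Q := (S → R) ⧸ LinearMap.range Φ
    haveI : Nontrivial Q := Submodule.Quotient.nontrivial_iff.mpr hΦ
    let 𝔪 := IsLocalRing.maximalIdeal R
    letI : Field (R ⧸ 𝔪) := Ideal.Quotient.field 𝔪
    haveI : Nontrivial (Q ⧸ 𝔪 • (⊤ : Submodule R Q)) := Submodule.Quotient.nontrivial_iff.mpr
      (Submodule.top_ne_ideal_smul_of_le_jacobson_annihilator (IsLocalRing.maximalIdeal_le_jacobson _)).symm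
    obtain ⟨v, hv⟩ := exists_ne (0 : Q ⧸ 𝔪 • (⊤ : Submodule R Q))
    obtain ⟨φ, hφ⟩ : ∃ φ : Module.Dual (R ⧸ 𝔪) (Q ⧸ 𝔪 • (⊤ : Submodule R Q)), φ v ≠ 0 := by
      by_contra h
      push Not at h
      exact hv ((Module.forall_dual_apply_eq_zero_iff (R ⧸ 𝔪) v).mp h)
    let γ : (S → R) →ₗ[R] (R ⧸ 𝔪) :=
      ((φ.restrictScalars R).comp (Submodule.mkQ _)).comp (Submodule.mkQ (LinearMap.range Φ))
    choose c hc using fun i : S => resMap_surjective (k := k) hxc (γ (Pi.single i 1) : X.residueField x)
    have hγ : ∀ w : S → R, γ w = Ideal.Quotient.mk 𝔪 (∑ i, w i * Curv2.stalkMap k X x (c i)) := fun w => by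
      conv_lhs => rw [pi_eq_sum_univ' w, map_sum]
      rw [map_sum]
      refine Finset.sum_congr rfl fun i _ => ?_
      rw [map_smul, map_mul]
      exact congrArg (fun z : R ⧸ 𝔪 => Ideal.Quotient.mk 𝔪 (w i) * z) (hc i).symm
    let g : N ⟶ Coh.structureModule X := ∑ i : S, f i ≫ sc (X := X) (c i)
    have hg : g ≠ 0 := fun hg0 => hφ (by
      obtain ⟨w, rfl⟩ := Submodule.mkQ_surjective _ v
      obtain ⟨w, rfl⟩ := Submodule.mkQ_surjective _ w
      have hc0 := hindep c hg0
      refine (hγ w).trans ?_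
      rw [hc0]
      simp)
    haveI := hall g hg
    obtain ⟨a, ha⟩ := (ModuleCat.epi_iff_surjective ((St x).map g)).mp inferInstance (e.symm 1)
    have h2 : e (((St x).map g).hom a) = ∑ i : S, Φ a i * Curv2.stalkMap k X x (c i) := by
      simp only [g, Functor.map_sum, ModuleCat.hom_sum, LinearMap.sum_apply, map_sum]
      refine Finset.sum_congr rfl fun i _ => ?_
      rw [Functor.map_comp]
      show e (((St x).map (sc (X := X) (c i))).hom (((St x).map (f i)).hom a)) = _
      rw [sc_stalk, map_smul, smul_eq_mul, mul_comm]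
      rfl
    have h3 : γ (Φ a) = 1 := by
      rw [hγ, ← h2, show ((St x).map g).hom a = e.symm 1 from ha, e.apply_symm_apply, map_one]
    have h5 : γ (Φ a) = 0 := by
      show φ (Submodule.Quotient.mk (Submodule.Quotient.mk (Φ a))) = 0
      rw [(Submodule.Quotient.mk_eq_zero _).mpr (LinearMap.mem_range_self Φ a), Submodule.Quotient.mk_zero, map_zero]
    exact one_ne_zero (h3.symm.trans h5)
  haveI := isIso_of_mono_of_epi ψ
  rcases S.eq_empty_or_nonempty with hSe | ⟨j, hj⟩
  · have hz : IsZero N := (IsZero.iff_id_eq_zero _).mpr (hS N (𝟙 N) fun i hi => absurd (hSe ▸ hi) (Finset.notMem_empty i))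
    exact hr ((CurveVBLib.genRank_eq hN).symm.trans (CurveVBLib.genRank_of_isZero hz))
  · let σ : Coh.structureModule X ⟶ N := biproduct.ι O ⟨j, hj⟩ ≫ inv ψ
    have hσ : σ.app ⊤ (1 : Γ(X, ⊤)) = 0 := h0 _
    have h1 : σ ≫ ψ ≫ biproduct.π O ⟨j, hj⟩ = 𝟙 _ := by simp [σ, O]
    have h2 := congrArg (fun t : Coh.structureModule X ⟶ Coh.structureModule X => t.app ⊤ (1 : Γ(X, ⊤))) h1
    have h3 : ((σ ≫ ψ ≫ biproduct.π O ⟨j, hj⟩).app ⊤) (1 : Γ(X, ⊤)) = 0 :=
      (congrArg ((ψ ≫ biproduct.π O ⟨j, hj⟩).app ⊤) hσ).trans (map_zero _)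
    have h4 : (0 : Γ(X, ⊤)) = 1 := h3.symm.trans h2
    exact zero_ne_one h4

/-- The negative line bundle quotient. -/
theorem exists_neg_quotient (hd : topologicalKrullDim X = 1) {N : X.Modules} {r : ℕ}
    (hN : FlatMod.IsFinLocFreeOfRank (r + 1) N)
    {m : ℕ} (f : Fin m → (N ⟶ Coh.structureModule X))
    (hf : ∀ (A : X.Modules) (g : A ⟶ N), (∀ i, g ≫ f i = 0) → g = 0)
    (h0 : ∀ s : Γ(N, ⊤), s = 0) :
    ∃ (K : X.Modules) (i : K ⟶ N), Mono i ∧ FlatMod.IsFinLocFreeOfRank r K ∧
      PicF.IsInvertible (cokernel i) ∧ Curv2.deg k X (cokernel i) 1 < 0 := by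
  haveI := CurvLib.isNoetherian k (X := X)
  obtain ⟨g, hg, hge⟩ := exists_not_epi (k := k) hN (by omega) f hf h0
  have hNc := CurvLib.isCoh_of_locFree hN
  have hO := CurvLib.locFree_of_isInvertible (CurvLib.isInvertible_structureModule (X := X))
  let i := kernel.ι g
  let t := Abelian.factorThruCoimage g
  have hK := QCohLib.isCoh_kernel g hNc (CurvLib.isCoh_of_locFree hO).1
  obtain ⟨hKr, hC, hrk, -, -⟩ := CurveVBLib.sub_data (k := k) hd hN i hK
  have hC' : Coh.IsCoh (Abelian.coimage g) := hC
  obtain ⟨hCr, -, hrC, -, hzC⟩ := CurveVBLib.sub_data (k := k) hd hO t hC'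
  have h1 : CurvLib.genRank (Abelian.coimage g) = 1 := by
    by_contra hne
    have hz := hzC (by omega)
    exact hg (by rw [← Abelian.coimage.fac g, show Abelian.factorThruCoimage g = 0 from hz.eq_of_src t 0, comp_zero])
  have hrk' : CurvLib.genRank (cokernel i) = 1 := h1
  rw [hrk'] at hrk
  obtain ⟨hle, heq⟩ := CurveVBLib.dg_le_of_mono (k := k) hd hC' h1 hO t
  have hdO : CurveVBLib.dg k (Coh.structureModule X) = 0 := by
    rw [CurveVBLib.dg, CurveVBLib.genRank_eq hO]; simp
  have hlt : CurveVBLib.dg k (Abelian.coimage g) < 0 := by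
    refine lt_of_le_of_ne (hdO ▸ hle) fun he => hge ?_
    haveI := heq (he.trans hdO.symm)
    rw [← Abelian.coimage.fac g]
    exact epi_comp _ _
  refine ⟨kernel g, i, inferInstance, (show CurvLib.genRank (kernel g) = r by omega) ▸ hKr,
    AmpleQSecLib.isInvertible_of_rank_one (show FlatMod.IsFinLocFreeOfRank 1 (Abelian.coimage g) from h1 ▸ hCr), ?_⟩
  have hdg := CurveVBLib.deg_eq (k := k) (cokernel i) 1
  rw [hdg]
  have : CurveVBLib.dg k (Abelian.coimage g) = Curv2.euler k X (cokernel i) - 1 * Curv2.euler k X (Coh.structureModule X) := by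
    rw [CurveVBLib.dg, h1]; rfl
  omega

end VBNegLib
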